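import Cfsg.Agent.Lib.Golay.Stab
import Cfsg.Agent.Lib.ClassicalLinear.Card
import Cfsg.Agent.Lib.ClassicalLinear.Generation

/-!
The stabiliser of three points in `Cfsg.M24` is PSL₃(4): an explicit labelling of the other 21
points by the projective plane over a field of four elements.
-/

set_option autoImplicit false

namespace CfsgLib.Golay

open Cfsg Matrix
open scoped LinearAlgebra.Projectivization
open scoped Pointwise MatrixGroups

/-- Addition in the four-element field, on labels `a₀ + 2 a₁ ↦ a₀ + a₁ ω`. -/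
def f4Add (a b : Fin 4) : Fin 4 :=
  ![![0, 1, 2, 3], ![1, 0, 3, 2], ![2, 3, 0, 1], ![3, 2, 1, 0]] a b

/-- Multiplication in the four-element field, on labels. -/
def f4Mul (a b : Fin 4) : Fin 4 :=
  ![![0, 0, 0, 0], ![0, 1, 2, 3], ![0, 2, 3, 1], ![0, 3, 1, 2]] a b

/-- Normalised coordinate labels of the 21 points of the plane. -/
def planeVec (k : Fin 21) : Fin 3 → Fin 4 :=
  if h : k.val < 16 then ![1, ⟨k.val / 4, by omega⟩, ⟨k.val % 4, by omega⟩]
  else if h' : k.val < 20 then ![0, 1, ⟨k.val - 16, by omega⟩] else ![0, 0, 1]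

/-- The bit numbers of the 21 points of the plane. -/
def planePt (k : Fin 21) : ℕ :=
  [1, 3, 5, 14, 4, 20, 18, 7, 22, 6, 15, 8, 13, 12, 21, 10, 16, 9, 11, 19, 17].getD k.val 0

/-- The image labels under the transvection adding `c` times coordinate `j` to coordinate `i`. -/
def transvecLabels (i j : Fin 3) (c : Fin 4) (v : Fin 3 → Fin 4) : Fin 3 → Fin 4 :=
  fun l => if l = i then f4Add (v i) (f4Mul c (v j)) else v l

theorem plane_checks :
    (∀ a b : Fin 21, ∀ s : Fin 4, (∀ l, planeVec a l = f4Mul s (planeVec b l)) → a = b) ∧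
      (∀ k, ∃ l, planeVec k l ≠ 0) ∧ (∀ p : GolayPt, p ∉ unmask 8388613 → ∃ k, pt (planePt k) = p) ∧
      (∀ a b, planePt a = planePt b → a = b) ∧ (∀ k, pt (planePt k) ∉ unmask 8388613) := by
  decide +kernel

theorem field4_tables {F : Type*} [Field F] [Fintype F] (hF : Fintype.card F = 4) :
    ∃ e : Fin 4 → F, e 0 = 0 ∧ e 1 = 1 ∧ Function.Bijective e ∧
      (∀ a b, e (f4Add a b) = e a + e b) ∧ ∀ a b, e (f4Mul a b) = e a * e b := by
  classical
  obtain ⟨w, hw0, hw1⟩ : ∃ w : F, w ≠ 0 ∧ w ≠ 1 := by
    by_contra h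
    simp only [not_exists, not_and, not_not] at h
    have : (Finset.univ : Finset F) ⊆ {0, 1} := fun x _ => by
      by_cases hx : x = 0
      · simp [hx]
      · simp [h x hx]
    have := (Finset.card_le_card this).trans Finset.card_le_two
    rw [Finset.card_univ, hF] at this
    omega
  have h4 : (4 : F) = 0 := by
    have := Nat.cast_card_eq_zero F
    rw [hF] at this
    exact_mod_cast this
  have h2 : (2 : F) = 0 := mul_self_eq_zero.1 (by rw [← h4]; norm_num)
  have hw3 : w ^ 3 = 1 := by
    have := FiniteField.pow_card_sub_one_eq_one w hw0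
    rwa [hF] at this
  have hw2 : w * w = w + 1 := by
    have : (w - 1) * (w * w + w + 1) = 0 := by linear_combination hw3
    rcases mul_eq_zero.1 this with h | h
    · exact absurd (sub_eq_zero.1 h) hw1
    · linear_combination h - (w + 1) * h2
  have hw1' : w + 1 ≠ 0 := fun h => hw1 (by linear_combination h - h2)
  refine ⟨![0, 1, w, w + 1], rfl, rfl, ?_, ?_, ?_⟩
  · have hinj : Function.Injective ![0, 1, w, w + 1] := by
      intro a b
      fin_cases a <;> fin_cases b <;> simp [hw0, hw1, hw1', Ne.symm hw0, Ne.symm hw1, Ne.symm hw1']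
    exact (Fintype.bijective_iff_injective_and_card _).2 ⟨hinj, by rw [Fintype.card_fin, hF]⟩
  · intro a b
    have hxx : ∀ x : F, x + x = 0 := fun x => by linear_combination x * h2
    have hxy : ∀ x y : F, x + (x + y) = y := fun x y => by linear_combination x * h2
    fin_cases a <;> fin_cases b <;> simp [f4Add, hxx, hxy, add_comm, add_left_comm]
  · intro a b
    have hxx : ∀ x : F, x + x = 0 := fun x => by linear_combination x * h2
    have hxy : ∀ x y : F, x + (x + y) = y := fun x y => by linear_combination x * h2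
    fin_cases a <;> fin_cases b <;>
      simp [f4Mul, mul_add, add_mul, hw2, hxx, hxy, add_comm, add_left_comm]

/-- The table of a transvection on the 24 points. -/
def transvecTbl (i j : Fin 3) (c : Fin 4) : ℕ :=
  let img : ℕ → ℕ := fun n =>
    match (List.finRange 21).find? fun k => planePt k == n with
    | none => n
    | some k =>
      match (List.finRange 21).find? fun l => (List.finRange 4).any fun s => decide (s ≠ 0) &&
          (List.finRange 3).all fun x => f4Mul s (planeVec l x) == transvecLabels i j c (planeVec k) x with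
      | none => n
      | some l => planePt l
  (List.range 24).foldr (fun n acc => acc + img n * 32 ^ n) 0

theorem transvec_checks : ∀ i j : Fin 3, i ≠ j → ∀ c : Fin 4,
    inM24 (transvecTbl i j c) = true ∧
      (∀ p : GolayPt, p ∈ unmask 8388613 → tblAt (transvecTbl i j c) (idx p) = idx p) ∧
      ∀ k : Fin 21, ∃ l : Fin 21, ∃ s : Fin 4, s ≠ 0 ∧
        (∀ x, f4Mul s (planeVec l x) = transvecLabels i j c (planeVec k) x) ∧
        tblAt (transvecTbl i j c) (planePt k) = planePt l := by
  decide +kernel

theorem chainM21_ok : chainOK [4, 1, 8388608] (chainM24.drop 3) finalM24 = true := by decide +kernel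

theorem card_stabK_three : Nat.card (stabK [4, 1, 8388608]) = 20160 := by
  rw [card_stabK chainM21_ok]
  decide +kernel

theorem stabilizer_stdThree :
    MulAction.stabilizer M24 (pt 23) ⊓ MulAction.stabilizer M24 (pt 0) ⊓
        MulAction.stabilizer M24 (pt 2) = (stabK [4, 1, 8388608]).subgroupOf M24 := by
  ext g
  rw [Subgroup.mem_subgroupOf, show (4 : ℕ) = 2 ^ 2 by norm_num, stabK_cons_two_pow (by norm_num),
    Subgroup.mem_inf, stabilizer_stdTwo, Subgroup.mem_inf, Subgroup.mem_subgroupOf]
  exact Iff.rfl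

theorem natCard_PSL3_four {F : Type*} [Field F] [Fintype F] (hF : Fintype.card F = 4) :
    Nat.card (ProjectiveSpecialLinearGroup (Fin 3) F) = 20160 := by
  have h := ClassicalLinear.card_PSL (ι := Fin 3) (F := F)
  rw [Fintype.card_fin, hF, Fin.prod_univ_three] at h
  norm_num at h
  omega

theorem transvection_mulVec_apply {R : Type*} [CommRing R] (i j x : Fin 3) (c : R)
    (v : Fin 3 → R) :
    (Matrix.transvection i j c *ᵥ v) x = if x = i then v i + c * v j else v x := by
  rw [Matrix.transvection, Matrix.add_mulVec, Matrix.one_mulVec, Pi.add_apply, Matrix.mulVec,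
    dotProduct]
  by_cases hx : x = i
  · subst hx
    rw [if_pos rfl, Finset.sum_eq_single j]
    · simp [Matrix.single]
    · intro b _ hb; simp [Matrix.single, Ne.symm hb]
    · simp
  · rw [if_neg hx, Finset.sum_eq_zero]
    · rw [add_zero]
    · intro b _; simp [Matrix.single, Ne.symm hx]

set_option maxHeartbeats 1000000 in
theorem exists_psl3_hom {F : Type*} [Field F] [Fintype F] (hF : Fintype.card F = 4) :
    ∃ φ : ProjectiveSpecialLinearGroup (Fin 3) F →* Equiv.Perm GolayPt,
      Function.Injective φ ∧ φ.range = stabK [4, 1, 8388608] := by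
  classical
  obtain ⟨e, e0, e1, ebij, hadd, hmul⟩ := field4_tables hF
  obtain ⟨hinjv, hnz, hsurjp, hinjp, houtp⟩ := plane_checks
  have hne : ∀ k, (fun x => e (planeVec k x)) ≠ 0 := fun k h => by
    obtain ⟨x, hx⟩ := hnz k
    exact hx (ebij.1 ((congrFun h x).trans e0.symm))
  set ψ : Fin 21 → ℙ F (Fin 3 → F) :=
    fun k => Projectivization.mk F _ (hne k) with hψ
  have hψb : Function.Bijective ψ := by
    have hinj : Function.Injective ψ := fun a b h => by
      obtain ⟨t, ht⟩ := (Projectivization.mk_eq_mk_iff' F _ _ _ _).1 h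
      obtain ⟨s, rfl⟩ := ebij.2 t
      refine hinjv a b s fun x => ebij.1 ?_
      rw [hmul, ← congrFun ht x]
      rfl
    have : Finite (Fin 3 → F) := inferInstance
    refine (Nat.bijective_iff_injective_and_card ψ).2 ⟨hinj, ?_⟩
    have h := Projectivization.card F (Fin 3 → F)
    rw [Nat.card_fun, Nat.card_fin, Nat.card_eq_fintype_card (α := F), hF] at h
    norm_num at h
    rw [Nat.card_eq_fintype_card, Fintype.card_fin]
    omega
  set χ : Fin 21 → {p : GolayPt // p ∉ unmask 8388613} := fun k => ⟨pt (planePt k), houtp k⟩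
  have hlt : ∀ k, planePt k < 24 := by decide +kernel
  have hχb : Function.Bijective χ := by
    refine ⟨fun a b h => hinjp a b ?_, fun p => ?_⟩
    · rw [← idx_pt (hlt a), ← idx_pt (hlt b)]
      exact congrArg (fun q => idx q.1) h
    · obtain ⟨k, hk⟩ := hsurjp p.1 p.2
      exact ⟨k, Subtype.ext hk⟩
  set f : ℙ F (Fin 3 → F) ≃ {p : GolayPt // p ∉ unmask 8388613} :=
    (Equiv.ofBijective ψ hψb).symm.trans (Equiv.ofBijective χ hχb) with hf
  have hfψ : ∀ k, f (ψ k) = χ k := fun k => by
    rw [hf, Equiv.trans_apply, Equiv.ofBijective_symm_apply_apply, Equiv.ofBijective_apply]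
  set φ := (Equiv.Perm.extendDomainHom f).comp
    (Projectivization.PSLAction.toPermHom (K := F) (ι := Fin 3)) with hφ
  have hφinj : Function.Injective φ :=
    (Equiv.Perm.extendDomainHom_injective f).comp
      Matrix.ProjectiveSpecialLinearGroup.toPermHom_injective
  -- transvections land in the three-point stabiliser
  have htr : ∀ (i j : Fin 3) (hij : i ≠ j) (c : F),
      φ (QuotientGroup.mk (SpecialLinearGroup.transvection hij c)) ∈ stabK [4, 1, 8388608] := by
    intro i j hij c
    obtain ⟨c', rfl⟩ := ebij.2 c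
    obtain ⟨hM, hfix, hact⟩ := transvec_checks i j hij c'
    have htbl : IsTbl (φ (QuotientGroup.mk (SpecialLinearGroup.transvection hij (e c'))))
        (transvecTbl i j c') := by
      intro p
      by_cases hp : p ∈ unmask 8388613
      · rw [hfix p hp, hφ, MonoidHom.comp_apply, Equiv.Perm.extendDomainHom_apply,
          Equiv.Perm.extendDomain_apply_not_subtype _ f (fun h => h hp)]
      · obtain ⟨k, rfl⟩ := hsurjp p hp
        obtain ⟨l, s, hs, hsl, htl⟩ := hact k
        rw [idx_pt (hlt k), htl, hφ, MonoidHom.comp_apply, Equiv.Perm.extendDomainHom_apply,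
          Equiv.Perm.extendDomain_apply_subtype _ f (houtp k)]
        have hpsl : Projectivization.PSLAction.toPermHom
            (QuotientGroup.mk (SpecialLinearGroup.transvection hij (e c'))) (ψ k) = ψ l := by
          show (SpecialLinearGroup.transvection hij (e c')) • ψ k = ψ l
          rw [hψ, Projectivization.matrixSpecialLinearGroup_smul_def, Projectivization.smul_mk,
            Projectivization.mk_eq_mk_iff']
          refine ⟨e s, funext fun x => ?_⟩
          show e s * e (planeVec l x) = (Matrix.transvection i j (e c') *ᵥ fun y => e (planeVec k y)) x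
          rw [← hmul, hsl, transvection_mulVec_apply, transvecLabels]
          by_cases hx : x = i
          · rw [if_pos hx, if_pos hx, hadd, hmul]
          · rw [if_neg hx, if_neg hx]
        have hk : (f.symm ⟨pt (planePt k), houtp k⟩) = ψ k := by
          rw [Equiv.symm_apply_eq, hfψ]
        rw [hk, hpsl, hfψ]
        exact idx_pt (hlt l)
    refine mem_stabK_of_isTbl htbl hM fun n hn => ?_
    have h1 : ∀ i j : Fin 3, i ≠ j → ∀ c : Fin 4,
        imgMask (transvecTbl i j c) 4 = 4 ∧ imgMask (transvecTbl i j c) 1 = 1 ∧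
          imgMask (transvecTbl i j c) 8388608 = 8388608 := by decide +kernel
    obtain ⟨a, b, d⟩ := h1 i j hij c'
    simp only [List.mem_cons, List.not_mem_nil, or_false] at hn
    rcases hn with rfl | rfl | rfl <;> assumption
  have hle : φ.range ≤ stabK [4, 1, 8388608] := by
    rintro _ ⟨g, rfl⟩
    induction g using QuotientGroup.induction_on with
    | H A =>
      refine ClassicalLinear.transvection_induction
        (P := fun A => φ (QuotientGroup.mk A) ∈ stabK [4, 1, 8388608]) ?_ htr ?_ A
      · rw [QuotientGroup.mk_one, map_one]; exact one_mem _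
      · intro A B hA hB
        rw [QuotientGroup.mk_mul, map_mul]
        exact mul_mem hA hB
  refine ⟨φ, hφinj, Subgroup.eq_of_le_of_card_ge hle ?_⟩
  rw [card_stabK_three, ← Nat.card_congr (MonoidHom.ofInjective hφinj).toEquiv,
    natCard_PSL3_four hF]

theorem exists_M24_map_three {p q r : GolayPt} (hpq : p ≠ q) (hpr : p ≠ r) (hqr : q ≠ r) :
    ∃ g : M24, g • pt 23 = p ∧ g • pt 0 = q ∧ g • pt 2 = r := by
  have := M24_three_transitive
  obtain ⟨g, hg⟩ := MulAction.exists_smul_eq M24
    (⟨![pt 23, pt 0, pt 2], by decide +kernel⟩ : Fin 3 ↪ GolayPt)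
    (⟨![p, q, r], by
      intro i j
      fin_cases i <;> fin_cases j <;> simp [hpq, hpr, hqr, hpq.symm, hpr.symm, hqr.symm]⟩ :
        Fin 3 ↪ GolayPt)
  exact ⟨g, DFunLike.congr_fun hg 0, DFunLike.congr_fun hg 1, DFunLike.congr_fun hg 2⟩

theorem threePoint_iso_PSL3 {p q r : GolayPt} (hpq : p ≠ q) (hpr : p ≠ r) (hqr : q ≠ r)
    (F : Type*) [Field F] [Fintype F] (hF : Fintype.card F = 4) :
    Nonempty (↥(MulAction.stabilizer M24 p ⊓ MulAction.stabilizer M24 q ⊓
      MulAction.stabilizer M24 r) ≃* ProjectiveSpecialLinearGroup (Fin 3) F) := by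
  obtain ⟨φ, hinj, hrange⟩ := exists_psl3_hom hF
  obtain ⟨g, hp, hq, hr⟩ := exists_M24_map_three hpq hpr hqr
  have hmap : (MulAction.stabilizer M24 (pt 23) ⊓ MulAction.stabilizer M24 (pt 0) ⊓
      MulAction.stabilizer M24 (pt 2)).map (MulAut.conj g).toMonoidHom =
        MulAction.stabilizer M24 p ⊓ MulAction.stabilizer M24 q ⊓ MulAction.stabilizer M24 r := by
    rw [← hp, ← hq, ← hr, MulAction.stabilizer_smul_eq_stabilizer_map_conj,
      MulAction.stabilizer_smul_eq_stabilizer_map_conj,
      MulAction.stabilizer_smul_eq_stabilizer_map_conj,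
      Subgroup.map_inf _ _ _ (MulAut.conj g).injective,
      Subgroup.map_inf _ _ _ (MulAut.conj g).injective]
  exact ⟨((((MulEquiv.subgroupCongr hmap.symm).trans
    (Subgroup.equivMapOfInjective _ _ (MulAut.conj g).injective).symm).trans
      (MulEquiv.subgroupCongr stabilizer_stdThree)).trans
      ((Subgroup.subgroupOfEquivOfLe (stabK_le_M24 _)).trans
        (MulEquiv.subgroupCongr hrange.symm))).trans (MonoidHom.ofInjective hinj).symm⟩

end CfsgLib.Golay
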