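import Cfsg.Agent.Lib.Golay.Stab
import Cfsg.Agent.Lib.Mathieu.Simple

/-!
Simplicity of the point, two-point, dodecad and dodecad-point stabilisers of `Cfsg.M24`, and of
`Cfsg.M24` itself.
-/

set_option autoImplicit false

namespace CfsgLib.Golay

open Cfsg MulAction
open scoped Pointwise

/-- The points of a dodecad, as a set with an action of the dodecad's stabiliser. -/
def dodPts (d : Finset GolayPt) : SubMulAction (stabilizer M24 d) GolayPt where
  carrier := (d : Set GolayPt)
  smul_mem' g x hx := by
    have h : (g : M24) • d = d := g.2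
    have h' := Finset.smul_mem_smul_finset (a := (g : M24)) (Finset.mem_coe.1 hx)
    rw [h] at h'
    exact Finset.mem_coe.2 h'

theorem card_dodPts {d : Finset GolayPt} (hd : d ∈ dodecads) : Nat.card (dodPts d) = 12 := by
  show Nat.card (d : Set GolayPt) = 12
  rw [Nat.card_coe_set_eq, Set.ncard_coe_finset]
  exact hd.2

theorem dodPts_five_transitive {d : Finset GolayPt} (hd : d ∈ dodecads) :
    IsMultiplyPretransitive (stabilizer M24 d) (dodPts d) 5 := by
  refine ⟨fun x y => ?_⟩
  obtain ⟨g, hg, -⟩ := sharply_five_transitive hd (x.trans (Function.Embedding.subtype _))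
    (y.trans (Function.Embedding.subtype _)) (fun i => (x i).2) (fun i => (y i).2)
  exact ⟨g, DFunLike.ext _ _ fun i => Subtype.ext (hg i)⟩

theorem dodPts_two_transitive {d : Finset GolayPt} (hd : d ∈ dodecads) :
    IsMultiplyPretransitive (stabilizer M24 d) (dodPts d) 2 :=
  have := dodPts_five_transitive hd
  isMultiplyPretransitive_of_le (n := 5) (by norm_num) (by rw [card_dodPts hd]; norm_num)

theorem dodPts_faithful {d : Finset GolayPt} (hd : d ∈ dodecads) :
    FaithfulSMul (stabilizer M24 d) (dodPts d) := by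
  refine ⟨fun {g₁ g₂} h => ?_⟩
  obtain ⟨s, hs, hs5⟩ := Finset.exists_subset_card_eq (show 5 ≤ d.card by rw [hd.2]; norm_num)
  set x : Fin 5 ↪ GolayPt :=
    (Finset.equivFinOfCardEq hs5).symm.toEmbedding.trans (Function.Embedding.subtype _)
  have hx : ∀ i, x i ∈ d := fun i => hs ((Finset.equivFinOfCardEq hs5).symm i).2
  refine (sharply_five_transitive hd x
    (x.trans (((g₁ : M24) : Equiv.Perm GolayPt)).toEmbedding) hx ?_).unique (fun i => rfl) ?_
  · exact fun i => ((dodPts d).smul_mem g₁ (show x i ∈ dodPts d from hx i) :)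
  · intro i
    exact (congrArg Subtype.val (h (⟨x i, hx i⟩ : dodPts d))).symm

/-- The stabiliser of a dodecad and a point of it, as a point stabiliser. -/
def dodPointEquiv (d : Finset GolayPt) (a : dodPts d) :
    ↥(stabilizer (stabilizer M24 d) a) ≃* ↥(stabilizer M24 d ⊓ stabilizer M24 (a : GolayPt)) where
  toFun g := ⟨g.1.1, Subgroup.mem_inf.2 ⟨g.1.2, congrArg Subtype.val (g.2 : g.1 • a = a)⟩⟩
  invFun g := ⟨⟨g.1, (Subgroup.mem_inf.1 g.2).1⟩, Subtype.ext (Subgroup.mem_inf.1 g.2).2⟩
  left_inv _ := rfl
  right_inv _ := rfl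
  map_mul' _ _ := rfl

theorem ofStabilizer_faithful {G X : Type*} [Group G] [MulAction G X] [FaithfulSMul G X] (a : X) :
    FaithfulSMul (stabilizer G a) (SubMulAction.ofStabilizer G a) := by
  refine ⟨fun {g₁ g₂} h => Subtype.ext (eq_of_smul_eq_smul (α := X) fun x => ?_)⟩
  by_cases hx : x = a
  · rw [hx]; exact g₁.2.trans g₂.2.symm
  · exact congrArg Subtype.val (h ⟨x, hx⟩)

theorem ofStabilizer_transitive {G X : Type*} [Group G] [MulAction G X]
    (h : IsMultiplyPretransitive G X 2) (a : X) :
    IsPretransitive (stabilizer G a) (SubMulAction.ofStabilizer G a) := by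
  refine ⟨fun x y => ?_⟩
  obtain ⟨g, hga, hgx⟩ := is_two_pretransitive_iff.1 h
    (show a ≠ (x : X) from fun e => x.2 (Set.mem_singleton_iff.2 e.symm))
    (show a ≠ (y : X) from fun e => y.2 (Set.mem_singleton_iff.2 e.symm))
  exact ⟨⟨g, hga⟩, Subtype.ext hgx⟩

theorem card_ofStabilizer {G X : Type*} [Group G] [MulAction G X] [Finite X] (a : X) :
    Nat.card (SubMulAction.ofStabilizer G a) = Nat.card X - 1 := by
  show Nat.card ↥({a}ᶜ : Set X) = _
  rw [Nat.card_coe_set_eq, Set.ncard_compl, Set.ncard_singleton]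

theorem M24_faithful : FaithfulSMul M24 GolayPt :=
  ⟨fun h => Subtype.ext (Equiv.ext h)⟩

theorem isSimpleGroup_dodecad_point {d : Finset GolayPt} (hd : d ∈ dodecads) {p : GolayPt}
    (hp : p ∈ d) : IsSimpleGroup ↥(stabilizer M24 d ⊓ stabilizer M24 p) := by
  have := dodPts_two_transitive hd
  have := dodPts_faithful hd
  set a : dodPts d := ⟨p, hp⟩
  have := ofStabilizer_faithful (G := stabilizer M24 d) a
  have := ofStabilizer_transitive (G := stabilizer M24 d) (dodPts_two_transitive hd) a
  have h : IsSimpleGroup ↥(stabilizer (stabilizer M24 d) a) := by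
    refine CfsgLib.Mathieu.isSimpleGroup_of_prime_degree (p := 11) (q := 5) (m := 720)
      (X := SubMulAction.ofStabilizer (stabilizer M24 d) a) (by norm_num) (by norm_num)
      (by rw [card_ofStabilizer, card_dodPts hd]) ?_ (by norm_num) (by norm_num) (by decide)
    rw [Nat.card_congr (dodPointEquiv d a).toEquiv]
    exact card_stabilizer_dodecad_inf_point hd hp
  exact MulEquiv.isSimpleGroup (dodPointEquiv d a).symm

theorem isSimpleGroup_dodecad {d : Finset GolayPt} (hd : d ∈ dodecads) :
    IsSimpleGroup (stabilizer M24 d) := by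
  have := dodPts_faithful hd
  obtain ⟨p, hp⟩ := Finset.card_pos.1 (show 0 < d.card by rw [hd.2]; norm_num)
  set a : dodPts d := ⟨p, hp⟩
  have := isSimpleGroup_dodecad_point hd hp
  have : IsSimpleGroup ↥(stabilizer (stabilizer M24 d) a) :=
    MulEquiv.isSimpleGroup (dodPointEquiv d a)
  exact CfsgLib.Mathieu.isSimpleGroup_of_stabilizer_simple (dodPts_two_transitive hd) a
    Nat.prime_two Nat.prime_three (by norm_num) (by rw [card_dodPts hd]; norm_num)
    (by rw [card_dodPts hd]; norm_num)

theorem isSimpleGroup_point (p : GolayPt) : IsSimpleGroup (stabilizer M24 p) := by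
  have := M24_two_transitive
  have := M24_faithful
  have := ofStabilizer_faithful (G := M24) p
  have := ofStabilizer_transitive (G := M24) M24_two_transitive p
  exact CfsgLib.Mathieu.isSimpleGroup_of_prime_degree (p := 23) (q := 11) (m := 443520)
    (X := SubMulAction.ofStabilizer M24 p) (by norm_num) (by norm_num)
    (by rw [card_ofStabilizer, card_golayPt]) (card_stabilizer_point p) (by norm_num)
    (by norm_num) (by decide)

theorem isSimpleGroup_M24 : IsSimpleGroup M24 := by
  have := M24_faithful
  have := isSimpleGroup_point (pt 23)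
  exact CfsgLib.Mathieu.isSimpleGroup_of_stabilizer_simple M24_two_transitive (pt 23)
    Nat.prime_two Nat.prime_three (by norm_num) (by rw [card_golayPt]; norm_num)
    (by rw [card_golayPt]; norm_num)

/-- `g ↦ i` iterated. -/
def iterTbl (t : ℕ) : ℕ → ℕ → ℕ
  | 0, i => i
  | k + 1, i => tblAt t (iterTbl t k i)

theorem pow_apply_idx {g : Equiv.Perm GolayPt} {t : ℕ} (h : IsTbl g t) :
    ∀ (k : ℕ) (p : GolayPt), idx ((g ^ k) p) = iterTbl t k (idx p)
  | 0, p => rfl
  | k + 1, p => by
    rw [pow_succ', Equiv.Perm.mul_apply, h, pow_apply_idx h k p]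
    rfl

set_option maxRecDepth 100000 in
theorem slpM22_ok : slpOK gen11Tbls slpM22 = true ∧
    chainOK [1, 8388608] chainM22 finalM22 = true ∧
    (chainM22.all fun l => l.2.2.all fun t => (gen11Tbls ++ slpM22.map Prod.fst).contains t) = true ∧
    (gen11Tbls.all fun t => inM24 t && (imgMask t 1 == 1 && (imgMask t 8388608 == 8388608 &&
      (List.range 24).all fun i => iterTbl t 11 i == i))) = true := by
  decide +kernel

theorem M22_generated_elevens :
    Subgroup.closure {g : stabK [1, 8388608] | g ^ 11 = 1} = ⊤ := by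
  have hle : stabK [1, 8388608] ≤
      (Subgroup.closure {g : stabK [1, 8388608] | g ^ 11 = 1}).map (Subgroup.subtype _) := by
    refine stabK_le slpM22_ok.2.1 fun l hl t ht g hg => ?_
    have hmem : t ∈ gen11Tbls ++ slpM22.map Prod.fst := by
      simpa using List.all_eq_true.1 (List.all_eq_true.1 slpM22_ok.2.2.1 l hl) t ht
    obtain ⟨g', hg', ht'⟩ := slp_mem
      (H := (Subgroup.closure {g : stabK [1, 8388608] | g ^ 11 = 1}).map (Subgroup.subtype _))
      slpM22_ok.1 (fun u hu => by
        have hu' := List.all_eq_true.1 slpM22_ok.2.2.2 u hu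
        simp only [Bool.and_eq_true, beq_iff_eq, List.all_eq_true, List.mem_range] at hu'
        obtain ⟨hM, h1, h23, hpow⟩ := hu'
        obtain ⟨k, hk⟩ := exists_isTbl (t := u) (by
          simp only [inM24, Bool.and_eq_true] at hM; exact hM.1)
        have hkm : k ∈ stabK [1, 8388608] := mem_stabK_of_isTbl hk hM (by
          intro n hn
          simp only [List.mem_cons, List.not_mem_nil, or_false] at hn
          rcases hn with rfl | rfl <;> assumption)
        refine ⟨k, ⟨⟨k, hkm⟩, Subgroup.subset_closure (Subtype.ext (Equiv.ext fun p => ?_)), rfl⟩, hk⟩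
        refine idx_injective ?_
        show idx ((k ^ 11) p) = idx p
        rw [pow_apply_idx hk, hpow _ (idx_lt p)]) t hmem
    rwa [hg.ext ht']
  rw [eq_top_iff]
  intro x _
  obtain ⟨y, hy, he⟩ := hle x.2
  rwa [← Subtype.ext he]

/-- The two-point stabiliser as a point stabiliser in the point stabiliser. -/
def twoPointEquiv (p : GolayPt) (b : SubMulAction.ofStabilizer M24 p) :
    ↥(stabilizer (stabilizer M24 p) b) ≃* ↥(stabilizer M24 p ⊓ stabilizer M24 (b : GolayPt)) where
  toFun g := ⟨g.1.1, Subgroup.mem_inf.2 ⟨g.1.2, congrArg Subtype.val (g.2 : g.1 • b = b)⟩⟩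
  invFun g := ⟨⟨g.1, (Subgroup.mem_inf.1 g.2).1⟩, Subtype.ext (Subgroup.mem_inf.1 g.2).2⟩
  left_inv _ := rfl
  right_inv _ := rfl
  map_mul' _ _ := rfl

set_option maxHeartbeats 2000000 in
set_option synthInstance.maxHeartbeats 400000 in
theorem isSimpleGroup_two {p q : GolayPt} (hpq : p ≠ q) :
    IsSimpleGroup ↥(stabilizer M24 p ⊓ stabilizer M24 q) := by
  have := M24_faithful
  have := M24_transitive
  set b : SubMulAction.ofStabilizer M24 p := ⟨q, fun h => hpq (Set.mem_singleton_iff.1 h).symm⟩
  set Y := SubMulAction.ofStabilizer (stabilizer M24 p) b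
  have := ofStabilizer_faithful (G := M24) p
  have := ofStabilizer_faithful (G := stabilizer M24 p) b
  -- the two-point stabiliser is doubly transitive on the other 22 points
  have hY : IsMultiplyPretransitive (stabilizer (stabilizer M24 p) b) Y 2 := by
    have := M24_five_transitive
    have h4 : IsMultiplyPretransitive M24 GolayPt 4 :=
      isMultiplyPretransitive_of_le (n := 5) (by norm_num) (by rw [card_golayPt]; norm_num)
    have := ofStabilizer_transitive (G := M24) M24_two_transitive p
    exact SubMulAction.ofStabilizer.isMultiplyPretransitive.1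
      (SubMulAction.ofStabilizer.isMultiplyPretransitive.1 h4)
  have hpre : IsPreprimitive (stabilizer (stabilizer M24 p) b) Y :=
    isPreprimitive_of_is_two_pretransitive hY
  have hcard : Nat.card ↥(stabilizer (stabilizer M24 p) b) = 443520 := by
    rw [Nat.card_congr (twoPointEquiv p b).toEquiv]
    exact card_stabilizer_two hpq
  have : Nontrivial ↥(stabilizer (stabilizer M24 p) b) :=
    (Finite.one_lt_card_iff_nontrivial).1 (by rw [hcard]; norm_num)
  have hYc : Nat.card Y = 22 :=
    (card_ofStabilizer (G := stabilizer M24 p) b).trans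
      (by rw [card_ofStabilizer (G := M24) p, card_golayPt])
  have : Nonempty Y := (Nat.card_ne_zero.1 (by rw [hYc]; norm_num)).1
  -- transport the generation by elements of order 11
  obtain ⟨c, hc1, hc2⟩ := exists_M24_map_two hpq
  have e : ↥(stabK [1, 8388608]) ≃* ↥(stabilizer (stabilizer M24 p) b) :=
    ((Subgroup.subgroupOfEquivOfLe (stabK_le_M24 [1, 8388608])).symm.trans
      (MulEquiv.subgroupCongr stabilizer_stdTwo.symm)).trans
      (((stabilizerInfEquiv c (pt 23) (pt 0)).trans
        (MulEquiv.subgroupCongr (by rw [hc1, hc2]))).trans (twoPointEquiv p b).symm)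
  have hgen : Subgroup.closure {g : ↥(stabilizer (stabilizer M24 p) b) | g ^ 11 = 1} = ⊤ := by
    rw [eq_top_iff]
    intro x _
    have hx : e.symm x ∈ Subgroup.closure {g : stabK [1, 8388608] | g ^ 11 = 1} := by
      rw [M22_generated_elevens]; trivial
    have := Subgroup.mem_map_of_mem e.toMonoidHom hx
    rw [MonoidHom.map_closure] at this
    refine Subgroup.closure_mono ?_ (by simpa using this)
    rintro _ ⟨g, hg, rfl⟩
    show e g ^ 11 = 1
    rw [← map_pow, show g ^ 11 = 1 from hg, map_one]
  have h := CfsgLib.Mathieu.isSimpleGroup_of_generated_prime (X := Y) (p := 11) (by norm_num)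
    (by rw [hYc]; norm_num) (by rw [hcard]; norm_num) hgen
  exact MulEquiv.isSimpleGroup (twoPointEquiv p b).symm

end CfsgLib.Golay
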