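import Cfsg.Agent.Lib.Golay.M24

/-!
Stabilisers in `Cfsg.M24` of points, dodecads and octads: orders, conjugation to the standard ones,
transitivity on tuples, and the hexads of a dodecad.
-/

set_option autoImplicit false

namespace CfsgLib.Golay

open Cfsg
open scoped Pointwise symmDiff

theorem card_golayPt : Nat.card GolayPt = 24 := by
  rw [Nat.card_eq_fintype_card, Fintype.card_option, ZMod.card]

theorem M24_two_transitive : MulAction.IsMultiplyPretransitive M24 GolayPt 2 :=
  have := M24_five_transitive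
  MulAction.isMultiplyPretransitive_of_le (n := 5) (by norm_num) (by rw [card_golayPt]; norm_num)

theorem M24_three_transitive : MulAction.IsMultiplyPretransitive M24 GolayPt 3 :=
  have := M24_five_transitive
  MulAction.isMultiplyPretransitive_of_le (n := 5) (by norm_num) (by rw [card_golayPt]; norm_num)

theorem M24_transitive : MulAction.IsPretransitive M24 GolayPt :=
  have := M24_two_transitive
  MulAction.isPretransitive_of_is_two_pretransitive

/-- An element of `M24` moving the standard two points to given ones. -/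
theorem exists_M24_map_two {p q : GolayPt} (hpq : p ≠ q) :
    ∃ g : M24, g • pt 23 = p ∧ g • pt 0 = q :=
  MulAction.is_two_pretransitive_iff.1 M24_two_transitive (by decide +kernel) hpq

/-- Stabilisers of two points conjugate along a group element. -/
noncomputable def stabilizerInfEquiv {G X Y : Type*} [Group G] [MulAction G X] [MulAction G Y]
    (g : G) (a : X) (b : Y) :
    ↥(MulAction.stabilizer G a ⊓ MulAction.stabilizer G b) ≃*
      ↥(MulAction.stabilizer G (g • a) ⊓ MulAction.stabilizer G (g • b)) :=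
  (Subgroup.equivMapOfInjective _ (MulAut.conj g).toMonoidHom (MulAut.conj g).injective).trans
    (MulEquiv.subgroupCongr (by
      rw [MulAction.stabilizer_smul_eq_stabilizer_map_conj,
        MulAction.stabilizer_smul_eq_stabilizer_map_conj,
        Subgroup.map_inf _ _ _ (MulAut.conj g).injective]))

theorem stabilizer_stdPoint :
    MulAction.stabilizer M24 (pt 23) = (stabK [8388608]).subgroupOf M24 := by
  ext g
  rw [Subgroup.mem_subgroupOf, show (8388608 : ℕ) = 2 ^ 23 by norm_num,
    stabK_cons_two_pow (by norm_num), stabK_nil, Subgroup.mem_inf]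
  exact ⟨fun h => ⟨g.2, h⟩, fun h => h.2⟩

theorem stabilizer_stdTwo :
    MulAction.stabilizer M24 (pt 23) ⊓ MulAction.stabilizer M24 (pt 0) =
      (stabK [1, 8388608]).subgroupOf M24 := by
  ext g
  rw [Subgroup.mem_subgroupOf, show (1 : ℕ) = 2 ^ 0 by norm_num,
    show (8388608 : ℕ) = 2 ^ 23 by norm_num,
    stabK_cons_two_pow (by norm_num), stabK_cons_two_pow (by norm_num), stabK_nil]
  simp only [Subgroup.mem_inf]
  exact ⟨fun h => ⟨⟨g.2, h.1⟩, h.2⟩, fun h => ⟨h.1.2, h.2⟩⟩

theorem stabilizer_stdDodecadPoint :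
    MulAction.stabilizer M24 (unmask dodMask) ⊓ MulAction.stabilizer M24 (pt 0) =
      (stabK [1, dodMask]).subgroupOf M24 := by
  ext g
  rw [Subgroup.mem_subgroupOf, show (1 : ℕ) = 2 ^ 0 by norm_num,
    stabK_cons_two_pow (by norm_num), stabilizer_dodMask]
  simp only [Subgroup.mem_inf, Subgroup.mem_subgroupOf]
  exact Iff.rfl

theorem card_stabilizer_point (p : GolayPt) : Nat.card (MulAction.stabilizer M24 p) = 10200960 := by
  have := M24_transitive
  obtain ⟨g, hg⟩ := MulAction.exists_smul_eq M24 (pt 23) p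
  rw [← Nat.card_congr (MulAction.stabilizerEquivStabilizer hg.symm).toEquiv, stabilizer_stdPoint,
    card_subgroupOf_M24 (stabK_le_M24 _), card_stabK_point]

theorem card_stabilizer_two {p q : GolayPt} (hpq : p ≠ q) :
    Nat.card ↥(MulAction.stabilizer M24 p ⊓ MulAction.stabilizer M24 q) = 443520 := by
  obtain ⟨g, hp, hq⟩ := exists_M24_map_two hpq
  rw [← hp, ← hq, ← Nat.card_congr (stabilizerInfEquiv g (pt 23) (pt 0)).toEquiv, stabilizer_stdTwo,
    card_subgroupOf_M24 (stabK_le_M24 _), card_stabK_two]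

theorem card_stabilizer_dodecad {d : Finset GolayPt} (hd : d ∈ dodecads) :
    Nat.card (MulAction.stabilizer M24 d) = 95040 := by
  obtain ⟨g, hg⟩ := dodecad_transitive dodMask_mem hd
  rw [← Nat.card_congr (MulAction.stabilizerEquivStabilizer hg.symm).toEquiv, stabilizer_dodMask,
    card_subgroupOf_M24 (stabK_le_M24 _), card_stabK_dodecad]

theorem dodMask_subset_iff {p : GolayPt} :
    p ∈ unmask dodMask ↔ dodMask.testBit (idx p) = true := mem_unmask

/-- Tuples with entries in an invariant set form one orbit of a subgroup of `M24` when the orders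
force it. -/
theorem exists_tuple_map {sets : List ℕ} {S : Finset GolayPt}
    (hS : ∀ g ∈ stabK sets, g • S = S) {n : ℕ} (x0 : Fin n ↪ GolayPt) (hx0 : ∀ i, x0 i ∈ S)
    (hcard : S.card.descFactorial n *
      Nat.card (stabK ((List.ofFn fun i => 2 ^ idx (x0 i)) ++ sets)) = Nat.card (stabK sets))
    (x y : Fin n ↪ GolayPt) (hx : ∀ i, x i ∈ S) (hy : ∀ i, y i ∈ S) :
    ∃ g ∈ stabK sets, ∀ i, g (x i) = y i := by
  classical
  set Y : Set (Fin n ↪ GolayPt) := {z | ∀ i, z i ∈ S}
  have hY : Y.ncard = S.card.descFactorial n := by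
    rw [← Nat.card_coe_set_eq,
      Nat.card_congr (show Y ≃ (Fin n ↪ S) from
        { toFun := fun z => ⟨fun i => ⟨z.1 i, z.2 i⟩,
            fun i j e => z.1.injective (congrArg Subtype.val e)⟩
          invFun := fun z => ⟨z.trans (Function.Embedding.subtype _), fun i => (z i).2⟩
          left_inv := fun z => rfl
          right_inv := fun z => rfl }),
      Nat.card_eq_fintype_card, Fintype.card_embedding_eq, Fintype.card_fin, Fintype.card_coe]
  have hst : Nat.card (MulAction.stabilizer (stabK sets) x0) =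
      Nat.card (stabK ((List.ofFn fun i => 2 ^ idx (x0 i)) ++ sets)) := by
    refine Nat.card_congr
      { toFun := fun g => ⟨g.1.1, (mem_stabK_tuple _ _).2 ⟨g.1.2, fun i => DFunLike.congr_fun g.2 i⟩⟩
        invFun := fun g => ⟨⟨g.1, ((mem_stabK_tuple _ _).1 g.2).1⟩,
          DFunLike.ext _ _ ((mem_stabK_tuple _ _).1 g.2).2⟩
        left_inv := fun g => rfl
        right_inv := fun g => rfl }
  have horb := orbit_eq_of_card (G := stabK sets) (x := x0) (Y := Y) (Set.toFinite _) hx0
    (fun g z hz i => by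
      show (g : Equiv.Perm GolayPt) (z i) ∈ S
      rw [← hS g g.2]; exact Finset.smul_mem_smul_finset (hz i))
    (by rw [hY, hst, hcard])
  obtain ⟨a, ha⟩ := (horb.symm ▸ hx : x ∈ MulAction.orbit (stabK sets) x0)
  obtain ⟨b, hb⟩ := (horb.symm ▸ hy : y ∈ MulAction.orbit (stabK sets) x0)
  refine ⟨(b : Equiv.Perm GolayPt) * (a : Equiv.Perm GolayPt)⁻¹, mul_mem b.2 (inv_mem a.2),
    fun i => ?_⟩
  rw [Equiv.Perm.mul_apply, ← DFunLike.congr_fun ha i, ← DFunLike.congr_fun hb i]
  show (b : Equiv.Perm GolayPt) ((a : Equiv.Perm GolayPt)⁻¹ ((a : Equiv.Perm GolayPt) (x0 i))) = _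
  simp
  rfl

theorem dodMask_card : (unmask dodMask).card = 12 := by
  rw [card_unmask]
  decide +kernel

theorem stabK_dodMask_smul {sets : List ℕ} (h : dodMask ∈ sets) :
    ∀ g ∈ stabK sets, g • unmask dodMask = unmask dodMask :=
  fun _ hg => (mem_stabK.1 hg).2 _ h

/-- Five points of `dodMask`. -/
def baseDod : Fin 5 ↪ GolayPt := ⟨![pt 4, pt 3, pt 2, pt 1, pt 0], by decide +kernel⟩

theorem stabK_baseDod_eq_bot : stabK ((List.ofFn fun i => 2 ^ idx (baseDod i)) ++ [dodMask]) = ⊥ := by
  have hl : (List.ofFn fun i => 2 ^ idx (baseDod i)) ++ [dodMask] = [16, 8, 4, 2, 1, dodMask] := by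
    decide +kernel
  rw [hl]
  exact stabK_eq_bot chainM12_ok.2.2

theorem sharply_five_transitive {d : Finset GolayPt} (hd : d ∈ dodecads) (x y : Fin 5 ↪ GolayPt)
    (hx : ∀ i, x i ∈ d) (hy : ∀ i, y i ∈ d) :
    ∃! g : MulAction.stabilizer M24 d, ∀ i, ((g : M24) : Equiv.Perm GolayPt) (x i) = y i := by
  obtain ⟨c, rfl⟩ := dodecad_transitive dodMask_mem hd
  have hmem : ∀ {q : GolayPt}, q ∈ c • unmask dodMask →
      (c : Equiv.Perm GolayPt)⁻¹ q ∈ unmask dodMask := fun {q} hq => by
    obtain ⟨r, hr, rfl⟩ := Finset.mem_smul_finset.1 hq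
    show (c : Equiv.Perm GolayPt)⁻¹ ((c : Equiv.Perm GolayPt) r) ∈ _
    simpa using hr
  set toStd : (z : Fin 5 ↪ GolayPt) → Fin 5 ↪ GolayPt :=
    fun z => z.trans ((c : Equiv.Perm GolayPt)⁻¹).toEmbedding with htoStd
  have hb : ∀ i, baseDod i ∈ unmask dodMask := by decide +kernel
  have hc5 : (unmask dodMask).card.descFactorial 5 *
      Nat.card (stabK ((List.ofFn fun i => 2 ^ idx (baseDod i)) ++ [dodMask])) =
        Nat.card (stabK [dodMask]) := by
    rw [stabK_baseDod_eq_bot, Subgroup.card_bot, card_stabK_dodecad, dodMask_card]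
    decide
  have hmap := exists_tuple_map (stabK_dodMask_smul (List.mem_singleton.2 rfl)) baseDod hb hc5
  obtain ⟨g, hg, hgi⟩ := hmap (toStd x) (toStd y) (fun i => hmem (hx i)) (fun i => hmem (hy i))
  obtain ⟨k, hk, hki⟩ := hmap baseDod (toStd x) hb (fun i => hmem (hx i))
  refine ⟨⟨c * ⟨g, stabK_le_M24 _ hg⟩ * c⁻¹, ?_⟩, fun i => ?_, fun h hh => ?_⟩
  · rw [MulAction.mem_stabilizer_iff, mul_smul, mul_smul, inv_smul_smul]
    exact congrArg (c • ·) (stabK_dodMask_smul (List.mem_singleton.2 rfl) g hg)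
  · show (c : Equiv.Perm GolayPt) (g ((c : Equiv.Perm GolayPt)⁻¹ (x i))) = y i
    have := hgi i
    simp only [htoStd, Function.Embedding.trans_apply, Equiv.toEmbedding_apply] at this
    rw [this]
    simp
  · -- the conjugate of `h` agrees with `g` on five points of the standard dodecad
    set h' : Equiv.Perm GolayPt :=
      (c : Equiv.Perm GolayPt)⁻¹ * ((h : M24) : Equiv.Perm GolayPt) * c with hh'
    have hh'mem : h' ∈ stabK [dodMask] := by
      refine mem_stabK.2 ⟨mul_mem (mul_mem (inv_mem c.2) (h : M24).2) c.2, fun n hn => ?_⟩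
      rw [List.mem_singleton.1 hn, hh', mul_smul, mul_smul]
      exact inv_smul_eq_iff.2 h.2
    have hw : k⁻¹ * (g⁻¹ * h') * k ∈
        stabK ((List.ofFn fun i => 2 ^ idx (baseDod i)) ++ [dodMask]) := by
      refine (mem_stabK_tuple _ _).2
        ⟨mul_mem (mul_mem (inv_mem hk) (mul_mem (inv_mem hg) hh'mem)) hk, fun i => ?_⟩
      have e1 : h' (toStd x i) = toStd y i := by
        simp only [hh', htoStd, Function.Embedding.trans_apply, Equiv.toEmbedding_apply,
          Equiv.Perm.mul_apply, Equiv.Perm.coe_inv, Equiv.apply_symm_apply]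
        rw [hh i]
      simp only [Equiv.Perm.mul_apply, hki i, e1]
      rw [← hgi i]
      simp [← hki i]
    rw [stabK_baseDod_eq_bot, Subgroup.mem_bot] at hw
    have hgh : g = h' := by
      have h2 : g⁻¹ * h' = 1 := by
        rw [show g⁻¹ * h' = k * (k⁻¹ * (g⁻¹ * h') * k) * k⁻¹ by group, hw]
        simp
      exact inv_mul_eq_one.1 h2
    apply Subtype.ext
    apply Subtype.ext
    show ((h : M24) : Equiv.Perm GolayPt) = (c : Equiv.Perm GolayPt) * g * (c : Equiv.Perm GolayPt)⁻¹
    rw [hgh, hh']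
    group

theorem card_stabilizer_dodecad_point {d : Finset GolayPt} (hd : d ∈ dodecads) {p : GolayPt}
    (hp : p ∈ d) :
    ∃ g : M24, g • unmask dodMask = d ∧ g • pt 0 = p := by
  obtain ⟨c, rfl⟩ := dodecad_transitive dodMask_mem hd
  obtain ⟨r, hr, rfl⟩ := Finset.mem_smul_finset.1 hp
  obtain ⟨s, hs, hs5⟩ := Finset.exists_subset_card_eq
    (show 4 ≤ ((unmask dodMask).erase r).card by
      rw [Finset.card_erase_of_mem hr, dodMask_card]; norm_num)
  -- complete r to a five-tuple inside the dodecad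
  have hrs : r ∉ s := fun h => Finset.ne_of_mem_erase (hs h) rfl
  set z : Fin 5 ↪ GolayPt := ⟨Fin.cons r fun i => ((Finset.equivFinOfCardEq hs5).symm i : GolayPt),
    Fin.cons_injective_iff.2 ⟨by
      rintro ⟨i, hi⟩
      exact hrs (hi ▸ ((Finset.equivFinOfCardEq hs5).symm i).2),
      Subtype.val_injective.comp (Equiv.injective _)⟩⟩ with hz
  set b : Fin 5 ↪ GolayPt := ⟨![pt 0, pt 1, pt 2, pt 3, pt 4], by decide +kernel⟩ with hb
  have hzm : ∀ i, z i ∈ unmask dodMask := by
    intro i
    refine Fin.cases ?_ (fun i => ?_) i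
    · exact hr
    · exact Finset.mem_of_mem_erase (hs ((Finset.equivFinOfCardEq hs5).symm i).2)
  obtain ⟨k, hk, hki⟩ := exists_tuple_map (stabK_dodMask_smul (List.mem_singleton.2 rfl))
    baseDod (by decide +kernel)
    (by rw [stabK_baseDod_eq_bot, Subgroup.card_bot, card_stabK_dodecad, dodMask_card]; decide)
    b z (by rw [hb]; decide +kernel) hzm
  refine ⟨c * ⟨k, stabK_le_M24 _ hk⟩, ?_, ?_⟩
  · rw [mul_smul]
    exact congrArg (c • ·) (stabK_dodMask_smul (List.mem_singleton.2 rfl) k hk)
  · rw [mul_smul]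
    exact congrArg (c • ·) (hki 0)

theorem card_stabilizer_dodecad_inf_point {d : Finset GolayPt} (hd : d ∈ dodecads) {p : GolayPt}
    (hp : p ∈ d) :
    Nat.card ↥(MulAction.stabilizer M24 d ⊓ MulAction.stabilizer M24 p) = 7920 := by
  obtain ⟨g, rfl, rfl⟩ := card_stabilizer_dodecad_point hd hp
  rw [← Nat.card_congr (stabilizerInfEquiv g (unmask dodMask) (pt 0)).toEquiv,
    stabilizer_stdDodecadPoint, card_subgroupOf_M24 (stabK_le_M24 _), card_stabK_dodecad_point]

/-- The three points of `outsidePts`. -/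
def baseOut : Fin 3 ↪ GolayPt :=
  ⟨![pt (outsidePts.getD 2 0), pt (outsidePts.getD 1 0), pt (outsidePts.getD 0 0)],
    by decide +kernel⟩

theorem three_transitive_outside {d : Finset GolayPt} (hd : d ∈ dodecads) {p : GolayPt}
    (hp : p ∈ d) (x y : Fin 3 ↪ GolayPt) (hx : ∀ i, x i ∉ d) (hy : ∀ i, y i ∉ d) :
    ∃ g ∈ MulAction.stabilizer M24 d ⊓ MulAction.stabilizer M24 p,
      ∀ i, (g : Equiv.Perm GolayPt) (x i) = y i := by
  obtain ⟨c, rfl, rfl⟩ := card_stabilizer_dodecad_point hd hp
  have hmem : ∀ {q : GolayPt}, q ∉ c • unmask dodMask →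
      (c : Equiv.Perm GolayPt)⁻¹ q ∈ (unmask dodMask)ᶜ := fun {q} hq => by
    rw [Finset.mem_compl]
    intro h
    exact hq (Finset.mem_smul_finset.2
      ⟨_, h, Equiv.apply_symm_apply (c : Equiv.Perm GolayPt) q⟩)
  have hinv : ∀ g ∈ stabK [1, dodMask], g • (unmask dodMask)ᶜ = (unmask dodMask)ᶜ := fun g hg => by
    ext q
    rw [← Finset.inv_smul_mem_iff, Finset.mem_compl, Finset.mem_compl, Finset.inv_smul_mem_iff,
      stabK_dodMask_smul (by simp) g hg]
  obtain ⟨g, hg, hgi⟩ := exists_tuple_map hinv baseOut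
    (fun i => Finset.mem_compl.2 (by revert i; decide +kernel))
    (by
      rw [show (List.ofFn fun i => 2 ^ idx (baseOut i)) ++ [1, dodMask] = m11Sets by decide +kernel,
        card_stabK_m11Sets, card_stabK_dodecad_point, Finset.card_compl, dodMask_card,
        Fintype.card_option, ZMod.card]
      decide)
    (x.trans ((c : Equiv.Perm GolayPt)⁻¹).toEmbedding)
    (y.trans ((c : Equiv.Perm GolayPt)⁻¹).toEmbedding)
    (fun i => hmem (hx i)) (fun i => hmem (hy i))
  refine ⟨c * ⟨g, stabK_le_M24 _ hg⟩ * c⁻¹, Subgroup.mem_inf.2 ⟨?_, ?_⟩, fun i => ?_⟩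
  · rw [MulAction.mem_stabilizer_iff, mul_smul, mul_smul, inv_smul_smul]
    exact congrArg (c • ·) ((mem_stabK.1 hg).2 _ (by simp))
  · rw [MulAction.mem_stabilizer_iff, mul_smul, mul_smul, inv_smul_smul]
    refine congrArg (c • ·) ?_
    have h := (mem_stabK.1 hg).2 1 (by simp)
    rw [show (1 : ℕ) = 2 ^ 0 by norm_num, unmask_two_pow_of_lt (by norm_num),
      Finset.smul_finset_singleton] at h
    exact Finset.singleton_injective h
  · show (c : Equiv.Perm GolayPt) (g ((c : Equiv.Perm GolayPt)⁻¹ (x i))) = y i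
    have := hgi i
    simp only [Function.Embedding.trans_apply, Equiv.toEmbedding_apply] at this
    rw [this]
    simp

theorem fixingSubgroup_smul_eq (g : Equiv.Perm GolayPt) (s : Finset GolayPt) (h : Equiv.Perm GolayPt) :
    h ∈ fixingSubgroup (Equiv.Perm GolayPt) ((g • s : Finset GolayPt) : Set GolayPt) ↔
      g⁻¹ * h * g ∈ fixingSubgroup (Equiv.Perm GolayPt) (s : Set GolayPt) := by
  simp only [mem_fixingSubgroup_iff, Finset.mem_coe, Finset.mem_smul_finset, forall_exists_index,
    and_imp, forall_apply_eq_imp_iff₂, mul_smul, inv_smul_eq_iff]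

theorem octadPts_inf :
    M24 ⊓ fixingSubgroup (Equiv.Perm GolayPt) ((unmask octMask : Finset GolayPt) : Set GolayPt) =
      stabK octadPts := by
  have h1 : ∀ p : GolayPt, octMask.testBit (idx p) = true → 2 ^ idx p ∈ octadPts := by
    decide +kernel
  have h2 : (octadPts.all fun n => (List.range 24).any fun i => n == 2 ^ i && octMask.testBit i) =
      true := by decide +kernel
  ext g
  simp only [Subgroup.mem_inf, mem_fixingSubgroup_iff, Finset.mem_coe, mem_unmask, mem_stabK]
  refine and_congr_right fun _ => ⟨fun h n hn => ?_, fun h p hp => ?_⟩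
  · simp only [List.all_eq_true, List.any_eq_true, List.mem_range, Bool.and_eq_true, beq_iff_eq] at h2
    obtain ⟨i, hi, rfl, hb⟩ := h2 n hn
    rw [unmask_two_pow_of_lt hi, Finset.smul_finset_singleton, h (pt i) (by rwa [idx_pt hi])]
  · have := h _ (h1 p hp)
    rw [unmask_two_pow, Finset.smul_finset_singleton] at this
    exact Finset.singleton_injective this

theorem octad_pointwise {o : Finset GolayPt} (ho : o ∈ octads) :
    Nat.card ↥(M24 ⊓ fixingSubgroup (Equiv.Perm GolayPt) (o : Set GolayPt)) = 16 ∧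
      ∀ g ∈ M24 ⊓ fixingSubgroup (Equiv.Perm GolayPt) (o : Set GolayPt), g * g = 1 := by
  obtain ⟨c, rfl⟩ := octad_transitive octMask_mem ho
  have heq : M24 ⊓ fixingSubgroup (Equiv.Perm GolayPt)
      ((c • unmask octMask : Finset GolayPt) : Set GolayPt) =
        (stabK octadPts).map (MulAut.conj (c : Equiv.Perm GolayPt)).toMonoidHom := by
    rw [← octadPts_inf]
    ext g
    rw [Subgroup.mem_map_equiv, Subgroup.mem_inf, Subgroup.mem_inf, MulAut.conj_symm_apply]
    refine and_congr ⟨fun h => mul_mem (mul_mem (inv_mem c.2) h) c.2, fun h => ?_⟩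
      (fixingSubgroup_smul_eq (c : Equiv.Perm GolayPt) _ g)
    have := mul_mem (mul_mem c.2 h) (inv_mem c.2)
    simpa [mul_assoc] using this
  rw [heq]
  refine ⟨?_, ?_⟩
  · rw [← Nat.card_congr (Subgroup.equivMapOfInjective _ _
      (MulAut.conj (c : Equiv.Perm GolayPt)).injective).toEquiv]
    exact card_stabK_octadPts
  · rintro _ ⟨k, hk, rfl⟩
    rw [← map_mul]
    suffices hkk : k * k = 1 by rw [hkk, map_one]
    obtain ⟨l, hl⟩ : ∃ l, chainOctad = [l] := ⟨_, rfl⟩
    have hok := chainOctad_ok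
    rw [hl] at hok
    obtain ⟨hrec, O, -, hO1, hO2, hb⟩ := chainOK_cons hok
    obtain ⟨t, ht, g, hg, htbl, he⟩ := hO2 _ (hO1 k hk)
    have hgk : g⁻¹ * k ∈ stabK (2 ^ l.1 :: octadPts) := by
      rw [stabK_cons_two_pow hb]
      refine Subgroup.mem_inf.2 ⟨mul_mem (inv_mem hg) hk, ?_⟩
      show (g⁻¹ * k) • pt l.1 = pt l.1
      rw [mul_smul, inv_smul_eq_iff]
      exact he.symm
    rw [stabK_eq_bot hrec, Subgroup.mem_bot, inv_mul_eq_one] at hgk
    have hall : ((chainOctad.getD 0 (0, [], [])).2.2.all fun t =>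
        isCompTbl (genTbls.getD 3 0) t t) = true := by decide +kernel
    rw [hl] at hall
    rw [← hgk]
    exact (htbl.mul htbl (List.all_eq_true.1 hall t ht)).ext isTbl_one

theorem octad_inter_dodecad {o d : Finset GolayPt} (ho : o ∈ octads) (hd : d ∈ dodecads)
    (h5 : 5 ≤ (o ∩ d).card) : (o ∩ d).card = 6 := by
  have h := card_mem_weights (symmDiff_mem_supports ho.1 hd.1)
  rw [show o ∆ d = (o ∪ d) \ (o ∩ d) from symmDiff_eq_sup_sdiff_inf o d,
    Finset.card_sdiff_of_subset Finset.inter_subset_union] at h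
  have := Finset.card_union_add_card_inter o d
  have := Finset.card_le_card (Finset.inter_subset_left (s₁ := o) (s₂ := d))
  have := ho.2
  have := hd.2
  omega

theorem hexads_isSteinerSystem {d : Finset GolayPt} (hd : d ∈ dodecads) :
    IsSteinerSystem 5 6 {h : Finset {p : GolayPt // p ∈ d} |
      ∃ o ∈ octads, (o ∩ d).card = 6 ∧ h = Finset.subtype (fun p => p ∈ d) o} := by
  constructor
  · rintro h ⟨o, -, ho6, rfl⟩
    rw [Finset.card_subtype, Finset.filter_mem_eq_inter, ho6]
  · intro s hs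
    set S := s.map (Function.Embedding.subtype fun p => p ∈ d)
    obtain ⟨o, ⟨ho, hSo⟩, hu⟩ := exists_octad_above (s := S) (by rw [Finset.card_map, hs])
    have h5 : 5 ≤ (o ∩ d).card := by
      rw [← hs, ← Finset.card_map (Function.Embedding.subtype fun p => p ∈ d)]
      refine Finset.card_le_card fun q hq => Finset.mem_inter.2 ⟨hSo hq, ?_⟩
      obtain ⟨a, -, rfl⟩ := Finset.mem_map.1 hq
      exact a.2
    refine ⟨_, ⟨⟨o, ho, octad_inter_dodecad ho hd h5, rfl⟩, fun a ha =>
      Finset.mem_subtype.2 (hSo (Finset.mem_map_of_mem _ ha))⟩, ?_⟩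
    rintro _ ⟨⟨o', ho', -, rfl⟩, hso'⟩
    rw [hu o' ⟨ho', fun q hq => by
      obtain ⟨a, ha, rfl⟩ := Finset.mem_map.1 hq
      exact Finset.mem_subtype.1 (hso' ha)⟩]

theorem ncard_octads_inter {d : Finset GolayPt} (hd : d ∈ dodecads) (k : ℕ) :
    {o : Finset GolayPt | o ∈ octads ∧ (o ∩ d).card = k}.ncard =
      countSpan basisMasks fun n => popc n == 8 && popc (n &&& dodMask) == k := by
  obtain ⟨c, rfl⟩ := dodecad_transitive dodMask_mem hd
  have h : {o : Finset GolayPt | o ∈ octads ∧ (o ∩ c • unmask dodMask).card = k} =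
      (fun o : Finset GolayPt => c • o) ''
        {o | o ∈ supports (golayCode : Set (GolayPt → ZMod 2)) ∧
          (o.card = 8 ∧ (o ∩ unmask dodMask).card = k)} := by
    ext o
    constructor
    · rintro ⟨ho, hk⟩
      refine ⟨c⁻¹ • o, ⟨(smul_mem_octads (c⁻¹).2 ho).1, (smul_mem_octads (c⁻¹).2 ho).2, ?_⟩,
        smul_inv_smul c o⟩
      rw [← hk, ← Finset.card_smul_finset c⁻¹ (o ∩ c • unmask dodMask), Finset.smul_finset_inter,
        inv_smul_smul]
    · rintro ⟨o, ⟨h1, h2, h3⟩, rfl⟩
      exact ⟨smul_mem_octads c.2 ⟨h1, h2⟩, by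
        rw [← Finset.smul_finset_inter, Finset.card_smul_finset, h3]⟩
  rw [h, Set.ncard_image_of_injective _ (MulAction.injective c)]
  exact ncard_supports_sep (fun s => s.card = 8 ∧ (s ∩ unmask dodMask).card = k) _
    fun n _ => by simp [card_unmask, ← unmask_and]

theorem dodecad_counts {d : Finset GolayPt} (hd : d ∈ dodecads) :
    {o : Finset GolayPt | o ∈ octads ∧ (o ∩ d).card = 6}.ncard = 132 ∧
      {o : Finset GolayPt | o ∈ octads ∧ (o ∩ d).card = 2}.ncard = 132 ∧
        {o : Finset GolayPt | o ∈ octads ∧ (o ∩ d).card = 4}.ncard = 495 := by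
  rw [ncard_octads_inter hd, ncard_octads_inter hd, ncard_octads_inter hd]
  decide +kernel

/-- Twelve octads spanning the code. -/
def octadBasis : List ℕ :=
  [5279, 10558, 18147, 36294, 69395, 133817, 262637, 525274, 1050548, 2101096, 4196943, 8391797]

theorem M24_eq_setSystemAut : M24 = setSystemAut octads := by
  refine le_antisymm (fun g hg => ?_) (fun g hg => ?_)
  · rw [setSystemAut, MulAction.mem_stabilizer_iff]
    refine Set.eq_of_subset_of_ncard_le ?_ ?_ (Set.toFinite _)
    · rintro _ ⟨o, ho, rfl⟩; exact smul_mem_octads hg ho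
    · exact (Set.ncard_image_of_injective _ (MulAction.injective g)).ge
  · have hoct : ∀ o ∈ octads, g • o ∈ octads := fun o ho => by
      rw [← MulAction.mem_stabilizer_iff.1 hg]
      exact Set.smul_mem_smul_set ho
    have hcheck : (octadBasis.all fun o => inCode o && popc o == 8) = true ∧
        (basisMasks.all fun b => !allSpan octadBasis fun n => n != b) = true := by decide +kernel
    refine mem_M24_of_forall fun b hb => ?_
    have hb' : b ∈ spanMasks octadBasis := by
      by_contra hc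
      have h := List.all_eq_true.1 hcheck.2 b hb
      rw [allSpan_iff.2 fun n hn => bne_iff_ne.2 fun e : n = b => hc (e ▸ hn)] at h
      exact absurd h Bool.false_ne_true
    rw [← support₂_wordOf]
    refine spanMasks_induction
      (P := fun w => g • support₂ w ∈ supports (golayCode : Set (GolayPt → ZMod 2))) ?_ ?_ ?_ hb'
    · simp only [← wordOf_zero, support₂_wordOf, unmask_zero, Finset.smul_finset_empty]
      exact mem_supports_iff.2 ⟨0, zero_mem_spanMasks _, unmask_zero⟩
    · intro v w hv hw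
      simp only [support₂_add, Finset.smul_finset_symmDiff]
      exact symmDiff_mem_supports hv hw
    · intro o ho
      have := List.all_eq_true.1 hcheck.1 o ho
      simp only [Bool.and_eq_true, beq_iff_eq] at this
      simp only [support₂_wordOf]
      exact (hoct _ (mem_octads_iff.2 ⟨o, inCode_iff.1 this.1, this.2, rfl⟩)).1

end CfsgLib.Golay
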