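import Cfsg.Agent.Lib.Golay.Perm

/-!
Homomorphisms into permutations of the 24 points given by tables, and subgroups given by complete
lists of tables.
-/

set_option autoImplicit false

namespace CfsgLib.Golay

open Cfsg

local notation "PP" => Equiv.Perm GolayPt

/-- The images of the first five bit numbers, packed. -/
def tblKey (t : ℕ) : ℕ := (List.range 5).foldl (fun a i => 32 * a + tblAt t i) 0

/-- The table is the identity. -/
def isIdTbl (t : ℕ) : Bool := (List.range 24).all fun i => tblAt t i == i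

/-- `h n = m h` on tables. -/
def conjTbl (h n m : ℕ) : Bool :=
  (List.range 24).all fun i => tblAt h (tblAt n i) == tblAt m (tblAt h i)

theorem IsTbl.tblAt_eq {g : PP} {t t' : ℕ} (h : IsTbl g t) (h' : IsTbl g t') {i : ℕ} (hi : i < 24) :
    tblAt t i = tblAt t' i := by
  rw [← idx_pt hi, ← h, ← h']

theorem IsTbl.key_eq {g : PP} {t t' : ℕ} (h : IsTbl g t) (h' : IsTbl g t') :
    tblKey t = tblKey t' := by
  have e : ∀ i, i < 24 → tblAt t i = tblAt t' i := fun i hi => h.tblAt_eq h' hi
  simp [tblKey, List.range_succ, e]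

theorem IsTbl.isIdTbl_iff {g : PP} {t : ℕ} (h : IsTbl g t) : isIdTbl t = true ↔ g = 1 := by
  simp only [isIdTbl, List.all_eq_true, List.mem_range, beq_iff_eq]
  constructor
  · intro hi
    exact Equiv.ext fun p => idx_injective ((h p).trans (hi _ (idx_lt p)))
  · rintro rfl i hi
    have e := h (pt i)
    rw [Equiv.Perm.one_apply, idx_pt hi] at e
    exact e.symm

theorem IsTbl.conj {g a b : PP} {h n m : ℕ} (hg : IsTbl g h) (ha : IsTbl a n) (hb : IsTbl b m)
    (e : conjTbl h n m = true) : g * a * g⁻¹ = b := by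
  rw [mul_inv_eq_iff_eq_mul]
  simp only [conjTbl, List.all_eq_true, List.mem_range, beq_iff_eq] at e
  refine Equiv.ext fun p => idx_injective ?_
  rw [Equiv.Perm.mul_apply, Equiv.Perm.mul_apply, hg, ha, hb, hg, e _ (idx_lt p)]

/-- A complete list of tables of a finite subgroup. -/
theorem exists_tbl_of_card {K : Subgroup PP} {L : List ℕ} (hok : L.all okTbl = true)
    (hnd : (L.map tblKey).Nodup) (hmem : ∀ t ∈ L, ∀ g, IsTbl g t → g ∈ K)
    (hcard : Nat.card K = L.length) : ∀ g ∈ K, ∃ t ∈ L, IsTbl g t := by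
  have hex : ∀ i : Fin L.length, ∃ g : PP, IsTbl g (L.get i) := fun i =>
    exists_isTbl (List.all_eq_true.1 hok _ (List.get_mem L i))
  choose f hf using hex
  let F : Fin L.length → K := fun i => ⟨f i, hmem _ (List.get_mem L i) _ (hf i)⟩
  have hinj : Function.Injective F := by
    intro i j h
    have e : f i = f j := congrArg Subtype.val h
    have hk := (hf i).key_eq (e ▸ hf j)
    exact Fin.ext ((List.Nodup.getElem_inj_iff hnd).1
      (show (L.map tblKey)[i.val]'(by simp) = (L.map tblKey)[j.val]'(by simp) by simpa using hk))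
  have hsurj := (Nat.bijective_iff_injective_and_card F).2 ⟨hinj, by simp [hcard]⟩
  intro g hg
  obtain ⟨i, hi⟩ := hsurj.2 ⟨g, hg⟩
  have e : f i = g := congrArg Subtype.val hi
  exact ⟨L.get i, List.get_mem L i, e ▸ hf i⟩

/-- A homomorphism from a table function satisfying the composition check. -/
theorem exists_tblHom {G : Type*} [Group G] (F : G → ℕ) (hok : ∀ g, okTbl (F g) = true)
    (hmul : ∀ a b, isCompTbl (F (a * b)) (F a) (F b) = true) :
    ∃ φ : G →* PP, ∀ g, IsTbl (φ g) (F g) := by
  have hex : ∀ g, ∃ p : PP, IsTbl p (F g) := fun g => exists_isTbl (hok g)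
  choose f hf using hex
  exact ⟨MonoidHom.mk' f fun a b => (hf (a * b)).ext ((hf a).mul (hf b) (hmul a b)), hf⟩

end CfsgLib.Golay
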